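import Groth.Agent.GeomProp.SmoothLocal
import Groth.Agent.CMFlat.Quotient
import Groth.Agent.CMFlat.Scheme
import Groth.Agent.SyntLib.MorStd
import Groth.Agent.SyntLib.Koszul
import Groth.Agent.SyntLib.CIMor
import Mathlib.AlgebraicGeometry.Morphisms.Flat
import Mathlib.AlgebraicGeometry.Morphisms.FinitePresentation
import Groth.Agent.S0116

/-!
Cohen-Macaulayness and Serre conditions along syntomic morphisms.
-/

set_option autoImplicit false
set_option linter.style.haveILetI false

namespace Groth.Agent.SyntCover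

universe u

open CategoryTheory AlgebraicGeometry IsLocalRing
open scoped TensorProduct

/-- complete intersections over a field are Cohen-Macaulay -/
theorem cm_of_isCIOver {k T : Type u} [Field k] [CommRing T] [IsLocalRing T] [Algebra k T] (h : Synt.IsCIOver k T) :
    LocCoh.IsCohenMacaulayLocalRing T := by
  obtain ⟨R, _, _, _, -, rs, hm, hreg, ⟨e⟩⟩ := h
  haveI := CMFlat.isCohenMacaulayLocalRing_of_isRegularLocalRing R
  have h' := CMFlat.isCohenMacaulayLocalRing_quotient_ofList (rs.map fun _ => ⟨(), ()⟩) R rs (by simp)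
    hreg.toIsWeaklyRegular hm
  exact CMChart.isCohenMacaulayLocalRing_of_ringEquiv e.symm.toRingEquiv h'

/-- The fibre local rings of a syntomic algebra are Cohen-Macaulay. -/
theorem cm_fibLocRing (A B : Type u) [CommRing A] [CommRing B] [Algebra A B]
    (h : Synt.IsSyntomic A B) (q : Ideal B) [q.IsPrime] :
    LocCoh.IsCohenMacaulayLocalRing (EGA4.FibLocRing A B q) := by
  obtain ⟨Q, _, ⟨e⟩⟩ := FlatDepth.exists_fibre_equiv (A := A) q
  let p := q.comap (algebraMap A B)
  exact CMChart.isCohenMacaulayLocalRing_of_ringEquiv e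
    (cm_of_isCIOver (SyntLib.isCIOver_of_isLCIOver (h.2.2 ⟨p, inferInstance⟩) Q))

/-- The affine local model of a syntomic morphism. -/
theorem exists_local_model {X Y : Scheme.{u}} (f : X ⟶ Y) (hf : Synt.IsSyntomicMor f) (x : X) :
    ∃ (A B : Type u) (_ : CommRing A) (_ : CommRing B) (_ : Algebra A B), Synt.IsSyntomic A B ∧
      (IsLocallyNoetherian Y → IsNoetherianRing A) ∧ ∃ (q : Ideal B) (_ : q.IsPrime)
      (_ : Y.presheaf.stalk (f.base x) ≃+* Localization.AtPrime (q.comap (algebraMap A B))),
      Nonempty (X.presheaf.stalk x ≃+* Localization.AtPrime q) := by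
  obtain ⟨⟨V, hV⟩, ⟨U, hU⟩, hVU, hxV, H⟩ := hf x
  let φ : Γ(Y, U) →+* Γ(X, V) := (f.appLE U V hVU).hom
  letI : Algebra Γ(Y, U) Γ(X, V) := φ.toAlgebra
  refine ⟨Γ(Y, U), Γ(X, V), inferInstance, inferInstance, inferInstance, H, fun h =>
    IsLocallyNoetherian.component_noetherian ⟨U, hU⟩, (hV.primeIdealOf ⟨x, hxV⟩).asIdeal, inferInstance, ?_⟩
  have hcomap := congr($(IsAffineOpen.comap_primeIdealOf_appLE U hU V hV hVU hxV).1)
  let e := IsAffineOpen.arrowStalkMapIso f U hU V hV hVU hxV
  suffices key : ∀ (p : Ideal Γ(Y, U)) (_ : p.IsPrime) (_ : p = (hV.primeIdealOf ⟨x, hxV⟩).asIdeal.comap φ)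
      (_ : Y.presheaf.stalk (f.base x) ≃+* Localization.AtPrime p)
      (_ : X.presheaf.stalk x ≃+* Localization.AtPrime (hV.primeIdealOf ⟨x, hxV⟩).asIdeal),
      ∃ (_ : Y.presheaf.stalk (f.base x) ≃+* Localization.AtPrime ((hV.primeIdealOf ⟨x, hxV⟩).asIdeal.comap φ)),
        Nonempty (X.presheaf.stalk x ≃+* Localization.AtPrime (hV.primeIdealOf ⟨x, hxV⟩).asIdeal) by
    exact key _ inferInstance hcomap.symm
      (Iso.commRingCatIsoToRingEquiv (Arrow.leftFunc.mapIso e))
      (Iso.commRingCatIsoToRingEquiv (Arrow.rightFunc.mapIso e))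
  rintro p _ rfl eY eX
  exact ⟨eY, ⟨eX⟩⟩

section local_rings

variable {A B : Type u} [CommRing A] [CommRing B] [Algebra A B] [IsNoetherianRing A]
  (h : Synt.IsSyntomic A B) (q : Ideal B) [q.IsPrime]

include h in
theorem isNoetherianRing_of_syntomic : IsNoetherianRing B := by
  haveI := h.2.1
  exact Algebra.FiniteType.isNoetherianRing A B

include h in
theorem cm_iff : LocCoh.IsCohenMacaulayLocalRing (Localization.AtPrime q) ↔
    LocCoh.IsCohenMacaulayLocalRing (Localization.AtPrime (q.comap (algebraMap A B))) := by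
  haveI := isNoetherianRing_of_syntomic h
  haveI := h.1
  let p := q.comap (algebraMap A B)
  haveI : q.LiesOver p := ⟨rfl⟩
  letI := Localization.AtPrime.algebraOfLiesOver p q
  obtain ⟨h1, h2, h3⟩ := FlatDepth.atPrime_setup q p
  haveI := h1
  haveI := h2
  haveI : IsNoetherianRing (Localization.AtPrime p) := IsLocalization.isNoetherianRing p.primeCompl _ inferInstance
  haveI : IsNoetherianRing (Localization.AtPrime q) := IsLocalization.isNoetherianRing q.primeCompl _ inferInstance
  refine (CMFlat.isCohenMacaulayLocalRing_iff (R := Localization.AtPrime p) (S := Localization.AtPrime q)).trans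
    (and_iff_left ?_)
  exact CMChart.isCohenMacaulayLocalRing_of_ringEquiv (Ideal.quotEquivOfEq h3.symm) (cm_fibLocRing A B h q)

include h in
theorem hasSk_iff (n : ℕ) : LocCoh.HasSk n (Localization.AtPrime q) (Localization.AtPrime q) ↔
    LocCoh.HasSk n (Localization.AtPrime (q.comap (algebraMap A B))) (Localization.AtPrime (q.comap (algebraMap A B))) := by
  haveI := isNoetherianRing_of_syntomic h
  haveI := h.1
  let p := q.comap (algebraMap A B)
  haveI : q.LiesOver p := ⟨rfl⟩
  letI := Localization.AtPrime.algebraOfLiesOver p q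
  obtain ⟨h1, h2, -⟩ := FlatDepth.atPrime_setup q p
  haveI := h1
  haveI := h2
  haveI : Module.FaithfullyFlat (Localization.AtPrime p) (Localization.AtPrime q) :=
    Module.FaithfullyFlat.of_flat_of_isLocalHom
  haveI : IsNoetherianRing (Localization.AtPrime p) := IsLocalization.isNoetherianRing p.primeCompl _ inferInstance
  haveI : IsNoetherianRing (Localization.AtPrime q) := IsLocalization.isNoetherianRing q.primeCompl _ inferInstance
  refine ⟨FlatDepth.hasSk_descent (A := Localization.AtPrime p) (B := Localization.AtPrime q) n, fun hp => ?_⟩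
  rw [FlatDepth.hasSk_iff_condS]
  intro P hP
  let P₀ := P.comap (algebraMap B (Localization.AtPrime q))
  haveI := FlatDepth.isLocalRing_fibLocRing (A := A) P₀
  have hA : FlatDepth.CondS n (Localization.AtPrime (P₀.comap (algebraMap A B))) :=
    FlatDepth.hasSk_loc_apply p hp _ (Ideal.comap_mono (FlatDepth.comap_loc_le q P))
  have hF : FlatDepth.CondS n (EGA4.FibLocRing A B P₀) := by
    haveI := cm_fibLocRing A B h P₀
    have := LocCoh.IsCohenMacaulayLocalRing.supportDim_eq_depth (R := EGA4.FibLocRing A B P₀)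
    rw [Module.supportDim_self_eq_ringKrullDim] at this
    rw [FlatDepth.CondS, this]
    exact min_le_right _ _
  exact (FlatDepth.condS_atPrime_ascent n P₀ hA hF).of_ringEquiv
    (IsLocalization.localizationLocalizationAtPrimeIsoLocalization q.primeCompl P).toRingEquiv

end local_rings

theorem hasSk_ringEquiv {T T' : Type u} [CommRing T] [IsNoetherianRing T] [CommRing T'] [IsNoetherianRing T'] (k : ℕ)
    (e : T ≃+* T') : LocCoh.HasSk k T T ↔ LocCoh.HasSk k T' T' :=
  ⟨fun h => FlatDepth.hasSk_of_equiv k e h, fun h => FlatDepth.hasSk_of_equiv k e.symm h⟩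

variable {X S : Scheme.{u}} (f : X ⟶ S) (hf : Synt.IsSyntomicMor f)

include hf in
theorem isLocallyNoetherian_of_syntomic [IsLocallyNoetherian S] : IsLocallyNoetherian X := by
  haveI := SyntLib.lfp_of_synMor f ((SyntLib.isSyntomicMor_iff f).mp hf)
  exact LocallyOfFiniteType.isLocallyNoetherian f

include hf in
theorem stalk_iff [IsLocallyNoetherian S] (x : X) :
    (LocCoh.IsCohenMacaulayLocalRing (X.presheaf.stalk x) ↔ LocCoh.IsCohenMacaulayLocalRing (S.presheaf.stalk (f x))) ∧
    ∀ k, (LocCoh.HasSk k (X.presheaf.stalk x) (X.presheaf.stalk x) ↔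
      LocCoh.HasSk k (S.presheaf.stalk (f x)) (S.presheaf.stalk (f x))) := by
  obtain ⟨A, B, _, _, _, h, hA, q, _, eY, ⟨eX⟩⟩ := exists_local_model f hf x
  haveI := hA inferInstance
  haveI := isNoetherianRing_of_syntomic h
  haveI : IsNoetherianRing (Localization.AtPrime q) := IsLocalization.isNoetherianRing q.primeCompl _ inferInstance
  haveI : IsNoetherianRing (Localization.AtPrime (q.comap (algebraMap A B))) :=
    IsLocalization.isNoetherianRing (q.comap (algebraMap A B)).primeCompl _ inferInstance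
  haveI := isLocallyNoetherian_of_syntomic f hf
  haveI : IsNoetherianRing (X.presheaf.stalk x) := isNoetherianRing_of_ringEquiv _ eX.symm
  haveI : IsNoetherianRing (S.presheaf.stalk (f x)) := isNoetherianRing_of_ringEquiv _ eY.symm
  refine ⟨?_, fun k => (hasSk_ringEquiv k eX).trans ((hasSk_iff h q k).trans (hasSk_ringEquiv k eY).symm)⟩
  exact (Iff.intro (CMChart.isCohenMacaulayLocalRing_of_ringEquiv eX) (CMChart.isCohenMacaulayLocalRing_of_ringEquiv eX.symm)).trans
    ((cm_iff h q).trans
      (Iff.intro (CMChart.isCohenMacaulayLocalRing_of_ringEquiv eY.symm) (CMChart.isCohenMacaulayLocalRing_of_ringEquiv eY)))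

open Limits in
/-- descent of the Noetherian condition -/
theorem isLocallyNoetherian_of_cover {ι : Type u} {S : Scheme.{u}} {X : ι → Scheme.{u}} (f : ∀ i, X i ⟶ S)
    (hsurj : ∀ s : S, ∃ i, s ∈ Set.range (f i).base) (hsyn : ∀ i, Synt.IsSyntomicMor (f i))
    (hX : ∀ i, IsLocallyNoetherian (X i)) : IsLocallyNoetherian S := by
  let π := Sigma.desc f
  haveI : ∀ i, Flat (f i) := fun i => SyntLib.flat_of_synMor _ ((SyntLib.isSyntomicMor_iff _).mp (hsyn i))
  haveI : Flat π := inferInstanceAs (Flat (Sigma.desc f))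
  haveI : LocallyOfFinitePresentation π := by
    haveI := HasRingHomProperty.instIsZariskiLocalAtSource (P := (@LocallyOfFinitePresentation : MorphismProperty Scheme.{u}))
    exact IsZariskiLocalAtSource.sigmaDesc fun i => SyntLib.lfp_of_synMor _ ((SyntLib.isSyntomicMor_iff _).mp (hsyn i))
  haveI : Surjective π := ⟨fun s => by
    obtain ⟨i, x, rfl⟩ := hsurj s
    exact ⟨Sigma.ι X i x, by rw [← Scheme.Hom.comp_apply, Sigma.ι_desc]⟩⟩
  haveI : IsLocallyNoetherian (∐ X) :=
    (isLocallyNoetherian_iff_openCover (sigmaOpenCover X)).mpr fun i => hX i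
  exact Groth.Agent.S0116.result π

end Groth.Agent.SyntCover
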